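import Groth.Agent.Lib.SuppSheafify16.Sect
import Groth.Agent.Lib.SiteCoh.Rpush
import Mathlib.CategoryTheory.Abelian.Injective.Ext

/-! The local cohomology sheaves are the sheafifications of cohomology with supports. -/

universe u

open CategoryTheory CategoryTheory.Limits Opposite TopologicalSpace Abelian

set_option autoImplicit false
set_option linter.style.haveILetI false
set_option backward.isDefEq.respectTransparency false
set_option backward.isDefEq.respectTransparency.types false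

noncomputable section

namespace Groth.Agent.SuppSheafify16

variable {X : TopCat.{u}} {W V : Opens X} (h : W ≤ V) {F : CohTop.Ab X} (R : InjectiveResolution F)

local notation "JX" => Opens.grothendieckTopology X

/-- Presheaves of sections with support of a resolution. -/
abbrev pcx : CochainComplex ((Opens X)ᵒᵖ ⥤ AddCommGrpCat.{u}) ℕ :=
  ((SuppFam.sectSuppLC h ⋙ sheafToPresheaf JX AddCommGrpCat.{u}).mapHomologicalComplex (ComplexShape.up ℕ)).obj
    R.cocomplex

/-- The cycles. -/
abbrev cyc (n : ℕ) : (Opens X)ᵒᵖ ⥤ AddCommGrpCat.{u} := kernel ((pcx h R).d n (n + 1))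

/-- The homomorphism of a cycle. -/
def cycHom (n : ℕ) (O : (Opens X)ᵒᵖ) (z : (cyc h R n).obj O) : zqO h O.unop ⟶ R.cocomplex.X n :=
  toHom h (R.cocomplex.X n) O.unop ((kernel.ι ((pcx h R).d n (n + 1))).app O z)

theorem cycHom_d (n : ℕ) (O : (Opens X)ᵒᵖ) (z : (cyc h R n).obj O) :
    cycHom h R n O z ≫ R.cocomplex.d n (n + 1) = 0 := by
  rw [cycHom, ← toHom_natural]
  exact (congrArg (toHom h _ O.unop) (ConcreteCategory.congr_hom
    (NatTrans.congr_app (kernel.condition ((pcx h R).d n (n + 1))) O) z)).trans (map_zero _)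

/-- The class of a cycle. -/
def cycExt (n : ℕ) (O : (Opens X)ᵒᵖ) (z : (cyc h R n).obj O) : Ext (zqO h O.unop) F n :=
  R.extMk (cycHom h R n O z) (n + 1) rfl (cycHom_d h R n O z)

/-- Cycles to cohomology with supports. -/
def toHZ (n : ℕ) : cyc h R n ⟶ SuppFam.HZpre F n h where
  app O := AddCommGrpCat.ofHom (AddMonoidHom.mk' (fun z => (cycExt h R n O z : Ext (zqO h O.unop) F n))
    fun z z' => by
      show (_ : Ext (zqO h O.unop) F n) = _
      refine Eq.trans ?_ (R.add_extMk _ _ _ rfl _ _).symm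
      unfold cycExt
      congr 1
      rw [cycHom, cycHom, cycHom, map_add, map_add])
  naturality O O' g := by
    apply AddCommGrpCat.hom_ext
    ext z
    show cycExt h R n O' ((cyc h R n).map g z) =
      (Ext.mk₀ (zqO' h (leOfHom g.unop))).comp (cycExt h R n O z) (zero_add n)
    unfold cycExt
    rw [R.mk₀_comp_extMk]
    congr 1
    rw [cycHom, cycHom, ← toHom_res]
    exact congrArg (toHom h _ O'.unop) (NatTrans.naturality_apply (kernel.ι ((pcx h R).d n (n + 1))) g z)

theorem cyc_injective (n : ℕ) (O : (Opens X)ᵒᵖ) :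
    Function.Injective ((kernel.ι ((pcx h R).d n (n + 1))).app O) :=
  (AddCommGrpCat.mono_iff_injective _).1 inferInstance

theorem exists_cyc (n : ℕ) (O : (Opens X)ᵒᵖ) (x : ((pcx h R).X n).obj O)
    (hx : ((pcx h R).d n (n + 1)).app O x = 0) : ∃ z, (kernel.ι ((pcx h R).d n (n + 1))).app O z = x :=
  (ShortComplex.ab_exact_iff _).1 ((ShortComplex.exact_of_f_is_kernel
    (ShortComplex.mk _ _ (kernel.condition ((pcx h R).d n (n + 1)))) (kernelIsKernel _)).map
      ((evaluation (Opens X)ᵒᵖ AddCommGrpCat.{u}).obj O)) x hx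

theorem toHZ_surjective (n : ℕ) (O : (Opens X)ᵒᵖ) : Function.Surjective ((toHZ h R n).app O) := fun α => by
  obtain ⟨f, hf, hα⟩ := R.extMk_surjective (α : Ext (zqO h O.unop) F n) (n + 1) rfl
  obtain ⟨x, hx⟩ := (toHom_bijective h (R.cocomplex.X n) O.unop).2 f
  obtain ⟨z, hz⟩ := exists_cyc h R n O x (by
    apply (toHom_bijective h (R.cocomplex.X (n + 1)) O.unop).1
    refine (toHom_natural h (R.cocomplex.d n (n + 1)) O.unop x).trans ?_
    rw [hx, hf, map_zero])
  refine ⟨z, ?_⟩
  show cycExt h R n O z = α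
  subst hα
  unfold cycExt
  congr 1
  rw [cycHom, hz, hx]

theorem toHZ_eq_zero_iff_succ (p : ℕ) (O : (Opens X)ᵒᵖ) (z : (cyc h R (p + 1)).obj O) :
    (toHZ h R (p + 1)).app O z = 0 ↔
      ∃ y, ((pcx h R).d p (p + 1)).app O y = (kernel.ι ((pcx h R).d (p + 1) (p + 2))).app O z := by
  refine Iff.trans (R.extMk_eq_zero_iff _ _ rfl (cycHom_d h R (p + 1) O z) p rfl) ⟨?_, ?_⟩
  · rintro ⟨g, hg⟩
    obtain ⟨y, hy⟩ := (toHom_bijective h (R.cocomplex.X p) O.unop).2 g
    refine ⟨y, (toHom_bijective h (R.cocomplex.X (p + 1)) O.unop).1 ?_⟩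
    exact (toHom_natural h (R.cocomplex.d p (p + 1)) O.unop y).trans ((congrArg (· ≫ _) hy).trans hg)
  · rintro ⟨y, hy⟩
    exact ⟨toHom h _ O.unop y, (toHom_natural h (R.cocomplex.d p (p + 1)) O.unop y).symm.trans
      (congrArg (toHom h _ O.unop) hy)⟩

theorem toHZ_injective_zero (O : (Opens X)ᵒᵖ) : Function.Injective ((toHZ h R 0).app O) := by
  refine (injective_iff_map_eq_zero _).2 fun z hz => ?_
  apply cyc_injective h R 0 O
  rw [map_zero]
  have h0 : ∀ (f : zqO h O.unop ⟶ R.cocomplex.X 0) (hf : f ≫ R.cocomplex.d 0 1 = 0),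
      R.extMk f 1 rfl hf = 0 → f = 0 := fun f hf h => by
    simp only [← R.extEquivCohomologyClass.apply_eq_iff_eq,
      InjectiveResolution.extEquivCohomologyClass_extMk,
      InjectiveResolution.extEquivCohomologyClass_zero,
      CochainComplex.HomComplex.CohomologyClass.mk_eq_zero_iff] at h
    rw [CochainComplex.HomComplex.Cocycle.fromSingleMk_mem_coboundaries_iff _ _ _ _ _ (-1) (by simp)] at h
    obtain ⟨g, hg⟩ := h
    rw [(CochainComplex.isZero_of_isStrictlyGE R.cochainComplex 0 (-1)).eq_of_tgt g 0, zero_comp] at hg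
    rw [← cancel_mono (R.cochainComplexXIso _ 0 rfl).inv, zero_comp]
    exact hg.symm
  apply (toHom_bijective h (R.cocomplex.X 0) O.unop).1
  exact (h0 _ (cycHom_d h R 0 O z) hz).trans (map_zero _).symm

theorem exists_homology_iso_aux (i n : ℕ) (hi : (ComplexShape.up ℕ).prev n = i)
    (hker : ∀ (O : (Opens X)ᵒᵖ) z, (toHZ h R n).app O z = 0 ↔
      ∃ y, ((pcx h R).d i n).app O y = (kernel.ι ((pcx h R).d n (n + 1))).app O z) :
    Nonempty ((pcx h R).homology n ≅ SuppFam.HZpre F n h) := by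
  let S := (pcx h R).sc' i n (n + 1)
  let a : S.X₁ ⟶ cyc h R n := kernel.lift _ ((pcx h R).d i n) ((pcx h R).d_comp_d _ _ _)
  have ha : ∀ (O : (Opens X)ᵒᵖ) y, (kernel.ι ((pcx h R).d n (n + 1))).app O (a.app O y) =
      ((pcx h R).d i n).app O y :=
    fun O y => ConcreteCategory.congr_hom (NatTrans.congr_app (kernel.lift_ι _ _ _) O) y
  have hker : ∀ (O : (Opens X)ᵒᵖ) z, (toHZ h R n).app O z = 0 ↔ ∃ y, a.app O y = z := fun O z =>
    (hker O z).trans ⟨fun ⟨y, hy⟩ => ⟨y, cyc_injective h R n O ((ha O y).trans hy)⟩,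
      fun ⟨y, hy⟩ => ⟨y, by rw [← hy]; exact (ha O y).symm⟩⟩
  have w : a ≫ toHZ h R n = 0 := by
    ext O y
    exact (hker O _).2 ⟨y, rfl⟩
  haveI : Epi (toHZ h R n) := by
    haveI : ∀ O, Epi ((toHZ h R n).app O) := fun O =>
      (AddCommGrpCat.epi_iff_surjective _).2 (toHZ_surjective h R n O)
    exact NatTrans.epi_of_epi_app _
  have hex : (ShortComplex.mk a (toHZ h R n) w).Exact := SiteCoh.exact_of_evaluation _ fun O =>
    (ShortComplex.ab_exact_iff _).2 fun z hz => (hker O z).1 hz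
  let d : S.LeftHomologyData :=
    { K := cyc h R n
      H := SuppFam.HZpre F n h
      i := kernel.ι _
      π := toHZ h R n
      wi := kernel.condition _
      hi := kernelIsKernel _
      wπ := w
      hπ := hex.gIsCokernel }
  exact ⟨ShortComplex.homologyMapIso ((pcx h R).isoSc' i n (n + 1) hi (CochainComplex.next _ n)) ≪≫
    d.homologyIso⟩

theorem exists_homology_iso (n : ℕ) : Nonempty ((pcx h R).homology n ≅ SuppFam.HZpre F n h) := by
  cases n with
  | zero =>
    refine exists_homology_iso_aux h R 0 0 (by simp) fun O z => ?_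
    have hd : (pcx h R).d 0 0 = 0 := (pcx h R).shape _ _ (by simp)
    constructor
    · intro hz
      refine ⟨0, ?_⟩
      rw [toHZ_injective_zero h R O (hz.trans (map_zero _).symm), map_zero, map_zero]
    · rintro ⟨y, hy⟩
      rw [hd] at hy
      rw [cyc_injective h R 0 O (hy.symm.trans (map_zero _).symm), map_zero]
  | succ p => exact exists_homology_iso_aux h R p (p + 1) (by simp) (toHZ_eq_zero_iff_succ h R p)

theorem nonempty_iso (F : CohTop.Ab X) (q : ℕ) :
    Nonempty ((SuppFam.HZshLC h q).obj F ≅ (presheafToSheaf JX AddCommGrpCat.{u}).obj (SuppFam.HZpre F q h)) := by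
  let R := injectiveResolution F
  let Φ : SuppFam.sectSuppLC h ⋙ sheafToPresheaf JX AddCommGrpCat.{u} ⋙ presheafToSheaf JX AddCommGrpCat.{u} ≅
      SuppFam.sectSuppLC h :=
    Functor.isoWhiskerLeft (SuppFam.sectSuppLC h) (asIso (sheafificationAdjunction JX AddCommGrpCat.{u}).counit) ≪≫
      Functor.rightUnitor _
  obtain ⟨e⟩ := exists_homology_iso h R q
  let e1 : (((presheafToSheaf JX AddCommGrpCat.{u}).mapHomologicalComplex (ComplexShape.up ℕ)).obj (pcx h R)) ≅
      ((SuppFam.sectSuppLC h).mapHomologicalComplex (ComplexShape.up ℕ)).obj R.cocomplex :=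
    HomologicalComplex.Hom.isoOfComponents (fun i => Φ.app (R.cocomplex.X i))
      fun i j _ => (Φ.hom.naturality (R.cocomplex.d i j)).symm
  exact ⟨R.isoRightDerivedObj (SuppFam.sectSuppLC h) q ≪≫
    (HomologicalComplex.homologyFunctor _ _ q).mapIso e1.symm ≪≫
    ((pcx h R).sc q).mapHomologyIso (presheafToSheaf JX AddCommGrpCat.{u}) ≪≫
    (presheafToSheaf JX AddCommGrpCat.{u}).mapIso e⟩

end Groth.Agent.SuppSheafify16
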