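import Groth.Agent.Lib.SuppQCoh13.Top
import Groth.Prelude.Def_FreeSh

/-! Sections of `Γ_Z` over an open as homomorphisms out of `ℤ_{V ∩ O}/ℤ_{W ∩ O}`. -/

universe u

open CategoryTheory CategoryTheory.Limits Opposite TopologicalSpace

set_option autoImplicit false
set_option backward.isDefEq.respectTransparency false
set_option backward.isDefEq.respectTransparency.types false

noncomputable section

namespace Groth.Agent.SuppSheafify16

open SuppQCoh13

variable {X : TopCat.{u}} {W V : Opens X} (h : W ≤ V)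

local notation "JX" => Opens.grothendieckTopology X

theorem part_eq (V O : Opens X) : part V O = V ⊓ O := by
  rw [part, LocCohZ.functor_map_obj, inf_comm]

/-- The pair over an open. -/
abbrev zqO (O : Opens X) : CohTop.Ab X := _root_.LocCohZ.zq (inf_le_inf_right O h : W ⊓ O ≤ V ⊓ O)

/-- The map between the pairs over two opens. -/
abbrev zqO' {O O' : Opens X} (hO : O' ≤ O) : zqO h O' ⟶ zqO h O :=
  _root_.LocCohZ.zqMap (inf_le_inf_right O h : W ⊓ O ≤ V ⊓ O) (inf_le_inf_right O' h : W ⊓ O' ≤ V ⊓ O')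
    (inf_le_inf_left W hO) (inf_le_inf_left V hO)

/-- The underlying section over `V ∩ O`. -/
def sec (G : CohTop.Ab X) (O : Opens X) :
    ((SuppFam.sectSuppLC h).obj G).obj.obj (op O) →+ G.obj.obj (op (V ⊓ O)) :=
  (G.obj.map (homOfLE (part_eq V O).ge).op).hom.comp (((κ h).app G).hom.app (op O)).hom

theorem map_map' (G : CohTop.Ab X) {A B B' C : Opens X} (h₁ : B ≤ A) (h₂ : C ≤ B) (h₁' : B' ≤ A) (h₂' : C ≤ B')
    (s : G.obj.obj (op A)) :
    G.obj.map (homOfLE h₂).op (G.obj.map (homOfLE h₁).op s) =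
      G.obj.map (homOfLE h₂').op (G.obj.map (homOfLE h₁').op s) :=
  (LocCohZ.map_map G h₁ h₂ s).trans (LocCohZ.map_map G h₁' h₂' s).symm

theorem sec_injective (G : CohTop.Ab X) (O : Opens X) : Function.Injective (sec h G O) := fun s s' e => by
  apply κ_injective h G O
  have := congrArg (G.obj.map (homOfLE (part_eq V O).le).op) e
  dsimp [sec] at this
  erw [LocCohZ.map_map, LocCohZ.map_map] at this
  simp at this
  exact this

theorem map_sec (G : CohTop.Ab X) (O : Opens X) (s : ((SuppFam.sectSuppLC h).obj G).obj.obj (op O)) :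
    G.obj.map (homOfLE (inf_le_inf_right O h : W ⊓ O ≤ V ⊓ O)).op (sec h G O s) = 0 := by
  have h0 : G.obj.map (homOfLE (part_mono h O)).op (((κ h).app G).hom.app (op O) s) = 0 :=
    (mem_κ_iff h G O _).1 ⟨s, rfl⟩
  refine (map_map' G (part_eq V O).ge (inf_le_inf_right O h) (part_mono h O) (part_eq W O).ge _).trans ?_
  exact (congrArg (G.obj.map (homOfLE (part_eq W O).ge).op) h0).trans (map_zero _)

theorem exists_sec (G : CohTop.Ab X) (O : Opens X) (r : G.obj.obj (op (V ⊓ O)))
    (hr : G.obj.map (homOfLE (inf_le_inf_right O h : W ⊓ O ≤ V ⊓ O)).op r = 0) :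
    ∃ s, sec h G O s = r := by
  obtain ⟨s, hs⟩ := (mem_κ_iff h G O (G.obj.map (homOfLE (part_eq V O).le).op r)).2 (by
    show G.obj.map (homOfLE (part_mono h O)).op (G.obj.map (homOfLE (part_eq V O).le).op r) = 0
    refine (map_map' G (part_eq V O).le (part_mono h O) (inf_le_inf_right O h) (part_eq W O).le r).trans ?_
    exact (congrArg (G.obj.map (homOfLE (part_eq W O).le).op) hr).trans (map_zero _))
  refine ⟨s, ?_⟩
  show G.obj.map (homOfLE (part_eq V O).ge).op (((κ h).app G).hom.app (op O) s) = r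
  rw [hs]
  exact (LocCohZ.map_map G _ _ r).trans (by simp)

theorem sec_natural {G G' : CohTop.Ab X} (φ : G ⟶ G') (O : Opens X)
    (s : ((SuppFam.sectSuppLC h).obj G).obj.obj (op O)) :
    sec h G' O (((SuppFam.sectSuppLC h).map φ).hom.app (op O) s) = φ.hom.app (op (V ⊓ O)) (sec h G O s) := by
  have e := congrArg (fun t => t.hom.app (op O) s) ((κ h).naturality φ)
  exact (congrArg (G'.obj.map (homOfLE (part_eq V O).ge).op) e).trans
    (NatTrans.naturality_apply φ.hom (homOfLE (part_eq V O).ge).op (((κ h).app G).hom.app (op O) s)).symm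

theorem sec_res (G : CohTop.Ab X) {O O' : Opens X} (hO : O' ≤ O)
    (s : ((SuppFam.sectSuppLC h).obj G).obj.obj (op O)) :
    sec h G O' (((SuppFam.sectSuppLC h).obj G).obj.map (homOfLE hO).op s) =
      G.obj.map (homOfLE (inf_le_inf_left V hO)).op (sec h G O s) := by
  refine (congrArg (G.obj.map (homOfLE (part_eq V O').ge).op)
    (NatTrans.naturality_apply ((κ h).app G).hom (homOfLE hO).op s)).trans ?_
  exact map_map' G _ (part_eq V O').ge (part_eq V O).ge (inf_le_inf_left V hO) _

/-- Homomorphisms out of the pair, as sections. -/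
def secHom (G : CohTop.Ab X) (O : Opens X) (φ : zqO h O ⟶ G) : G.obj.obj (op (V ⊓ O)) :=
  CohFree.evalGen JX (V ⊓ O) G (cokernel.π (CohCx.freeSheafMap JX (homOfLE (inf_le_inf_right O h))) ≫ φ)

theorem secHom_injective (G : CohTop.Ab X) (O : Opens X) : Function.Injective (secHom h G O) := fun φ φ' e =>
  (cancel_epi _).1 ((CohFree.homEquivSect JX (V ⊓ O) G).injective e)

theorem secHom_add (G : CohTop.Ab X) (O : Opens X) (φ φ' : zqO h O ⟶ G) :
    secHom h G O (φ + φ') = secHom h G O φ + secHom h G O φ' := by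
  rw [secHom, Preadditive.comp_add, map_add]; rfl

theorem exists_hom (G : CohTop.Ab X) (O : Opens X) (s : ((SuppFam.sectSuppLC h).obj G).obj.obj (op O)) :
    ∃ φ : zqO h O ⟶ G, secHom h G O φ = sec h G O s := by
  refine ⟨cokernel.desc _ (CohFree.ofSect JX (V ⊓ O) G (sec h G O s)) ?_, ?_⟩
  · apply (CohFree.homEquivSect JX (W ⊓ O) G).injective
    rw [map_zero, CohFree.homEquivSect_apply, CohFree.evalGen_freeSheafMap_comp, CohFree.evalGen_ofSect]
    exact map_sec h G O s
  · rw [secHom, cokernel.π_desc, CohFree.evalGen_ofSect]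

theorem exists_sect (G : CohTop.Ab X) (O : Opens X) (φ : zqO h O ⟶ G) : ∃ s, sec h G O s = secHom h G O φ := by
  refine exists_sec h G O _ ?_
  rw [secHom, ← CohFree.evalGen_freeSheafMap_comp, cokernel.condition_assoc, zero_comp, map_zero]

/-- The homomorphism of a section. -/
def toHom (G : CohTop.Ab X) (O : Opens X) : ((SuppFam.sectSuppLC h).obj G).obj.obj (op O) →+ (zqO h O ⟶ G) :=
  AddMonoidHom.mk' (fun s => (exists_hom h G O s).choose) fun s s' => secHom_injective h G O (by
    rw [secHom_add, (exists_hom h G O _).choose_spec, (exists_hom h G O s).choose_spec,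
      (exists_hom h G O s').choose_spec, map_add])

theorem secHom_toHom (G : CohTop.Ab X) (O : Opens X) (s) : secHom h G O (toHom h G O s) = sec h G O s :=
  (exists_hom h G O s).choose_spec

theorem toHom_bijective (G : CohTop.Ab X) (O : Opens X) : Function.Bijective (toHom h G O) := by
  refine ⟨fun s s' e => sec_injective h G O ?_, fun φ => ?_⟩
  · rw [← secHom_toHom, ← secHom_toHom, e]
  · obtain ⟨s, hs⟩ := exists_sect h G O φ
    exact ⟨s, secHom_injective h G O ((secHom_toHom h G O s).trans hs)⟩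

theorem toHom_natural {G G' : CohTop.Ab X} (φ : G ⟶ G') (O : Opens X)
    (s : ((SuppFam.sectSuppLC h).obj G).obj.obj (op O)) :
    toHom h G' O (((SuppFam.sectSuppLC h).map φ).hom.app (op O) s) = toHom h G O s ≫ φ := by
  apply secHom_injective h G' O
  rw [secHom_toHom, sec_natural, ← secHom_toHom h G O s, secHom, secHom, ← Category.assoc]
  rfl

theorem toHom_res (G : CohTop.Ab X) {O O' : Opens X} (hO : O' ≤ O)
    (s : ((SuppFam.sectSuppLC h).obj G).obj.obj (op O)) :
    toHom h G O' (((SuppFam.sectSuppLC h).obj G).obj.map (homOfLE hO).op s) = zqO' h hO ≫ toHom h G O s := by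
  apply secHom_injective h G O'
  rw [secHom_toHom, sec_res, ← secHom_toHom h G O s, secHom, secHom, zqO', _root_.LocCohZ.zqMap,
    cokernel.π_desc_assoc, Category.assoc, CohFree.evalGen_freeSheafMap_comp]

end Groth.Agent.SuppSheafify16
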